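import Mathlib
import Cfsg.Agent.Helper41.PSL2Orders

/-!
# The module `nat ⊗ nat^(3)` of `PSL₂(F) × {±1}` in characteristic 3 (helper39, for S2515)

`M = Mat₂(F)`, `g • X = g * X * σ(g)⁻¹` with `σ` the entrywise cube map, and `-1` acting as `-1`.
-/

set_option autoImplicit false

namespace Cfsg.Agent.Helper39.TruncRee

open Matrix

variable (F : Type) [Field F] [CharP F 3]

/-- the module -/
abbrev MV : Type := Matrix (Fin 2) (Fin 2) F

/-- `SL₂(F)` -/
abbrev SL2 : Type := Matrix.SpecialLinearGroup (Fin 2) F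

/-- `PSL₂(F)` -/
abbrev PSL2 : Type := Matrix.ProjectiveSpecialLinearGroup (Fin 2) F

/-- the acting group `PSL₂(F) × {±1}` -/
abbrev KK : Type := PSL2 F × ℤˣ

/-- the entrywise Frobenius on `SL₂(F)` -/
noncomputable def frobSL : SL2 F →* SL2 F :=
  haveI : Fact (Nat.Prime 3) := ⟨Nat.prime_three⟩
  Matrix.SpecialLinearGroup.map (frobenius F 3)

variable {F}

/-- the twisted conjugation action of `SL₂(F)` -/
noncomputable def act (g : SL2 F) (X : MV F) : MV F :=
  (g : Matrix (Fin 2) (Fin 2) F) * X * ((frobSL F g)⁻¹ : SL2 F)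

theorem act_one (X : MV F) : act (1 : SL2 F) X = X := by
  simp [act]

theorem act_mul (g h : SL2 F) (X : MV F) : act (g * h) X = act g (act h X) := by
  simp only [act, map_mul, _root_.mul_inv_rev, Matrix.SpecialLinearGroup.coe_mul]
  simp only [Matrix.mul_assoc]

theorem act_add (g : SL2 F) (X Y : MV F) : act g (X + Y) = act g X + act g Y := by
  simp [act, Matrix.mul_add, Matrix.add_mul]

theorem act_zero (g : SL2 F) : act g (0 : MV F) = 0 := by
  simp [act]

noncomputable instance instActSL : DistribMulAction (SL2 F) (MV F) where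
  smul := act
  one_smul := act_one
  mul_smul := act_mul
  smul_zero := act_zero
  smul_add := act_add

theorem sl_smul_def (g : SL2 F) (X : MV F) :
    g • X = (g : Matrix (Fin 2) (Fin 2) F) * X * ((frobSL F g)⁻¹ : SL2 F) := rfl

theorem coe_frobSL (g : SL2 F) :
    ((frobSL F g : SL2 F) : Matrix (Fin 2) (Fin 2) F) =
      (g : Matrix (Fin 2) (Fin 2) F).map (fun x => x ^ 3) := by
  rw [frobSL, Matrix.SpecialLinearGroup.map_apply_coe]
  ext i j
  simp [frobenius_def]

theorem coe_frobSL_inv (g : SL2 F) :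
    (((frobSL F g)⁻¹ : SL2 F) : Matrix (Fin 2) (Fin 2) F) =
      ((g : Matrix (Fin 2) (Fin 2) F).map (fun x => x ^ 3)).adjugate := by
  rw [Matrix.SpecialLinearGroup.coe_inv, coe_frobSL]

/-- central elements act trivially -/
theorem center_le_ker :
    Subgroup.center (SL2 F) ≤ (DistribMulAction.toAddMonoidEnd (SL2 F) (MV F)).ker := by
  intro g hg
  rw [Helper41.sl2_mem_center_iff] at hg
  obtain ⟨r, hr, hgr⟩ := hg
  rw [MonoidHom.mem_ker]
  ext X : 1
  show g • X = X
  rw [sl_smul_def, coe_frobSL_inv, hgr]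
  have h4 : r * r ^ 3 = 1 := by
    have : r * r ^ 3 = (r ^ 2) ^ 2 := by ring
    rw [this, hr, one_pow]
  ext i j
  fin_cases i <;> fin_cases j <;>
    simp [Matrix.mul_apply, Fin.sum_univ_two, Matrix.scalar_apply] <;>
    linear_combination (X _ _) * h4
theorem trace_frobSL (g : SL2 F) :
    Matrix.trace ((frobSL F g : SL2 F) : Matrix (Fin 2) (Fin 2) F) =
      (Matrix.trace (g : Matrix (Fin 2) (Fin 2) F)) ^ 3 := by
  have : Fact (Nat.Prime 3) := ⟨Nat.prime_three⟩
  rw [coe_frobSL, Matrix.trace_fin_two, Matrix.trace_fin_two, add_pow_char _ _ 3]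
  simp

omit [CharP F 3] in
/-- the trace identity forced by an intertwiner -/
theorem trace_of_intertwine {A B X A' : Matrix (Fin 2) (Fin 2) F} {t s c : F} (hc : c ^ 2 = 1)
    (hA : A * A = t • A - 1) (hB : B * B = s • B - 1) (hA' : A' * A = 1)
    (hAX : A * X = c • (X * B)) (hX : X ≠ 0) : t = c * s := by
  have h1 : A * A * X = X * (B * B) := by
    rw [Matrix.mul_assoc, hAX, Matrix.mul_smul, ← Matrix.mul_assoc, hAX, Matrix.smul_mul, smul_smul,
      ← sq, hc, one_smul, Matrix.mul_assoc]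
  rw [hA, hB, Matrix.sub_mul, Matrix.mul_sub, Matrix.one_mul, Matrix.mul_one, Matrix.smul_mul,
    Matrix.mul_smul, hAX, smul_smul] at h1
  have h2 : (t * c - s) • (X * B) = 0 := by
    rw [sub_smul]
    have := sub_left_injective h1
    rw [this, sub_self]
  rcases smul_eq_zero.mp h2 with h3 | h3
  · have : t * c = s := sub_eq_zero.mp h3
    rw [← this, mul_comm c, mul_assoc, ← sq, hc, mul_one]
  · exfalso
    apply hX
    have h4 : A * X = 0 := by rw [hAX, h3, smul_zero]
    calc X = A' * A * X := by rw [hA', Matrix.one_mul]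
      _ = 0 := by rw [Matrix.mul_assoc, h4, Matrix.mul_zero]

variable (F)
/-- the action hom of `PSL₂(F)` -/
noncomputable def rhoP : PSL2 F →* AddMonoid.End (MV F) :=
  QuotientGroup.lift (Subgroup.center (SL2 F)) (DistribMulAction.toAddMonoidEnd (SL2 F) (MV F))
    center_le_ker

/-- the sign action -/
noncomputable def sgnHom : ℤˣ →* AddMonoid.End (MV F) :=
  DistribMulAction.toAddMonoidEnd ℤˣ (MV F)

theorem rho_sgn_comm (m : PSL2 F) (n : ℤˣ) : Commute (rhoP F m) (sgnHom F n) := by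
  ext X : 1
  show rhoP F m (sgnHom F n X) = sgnHom F n (rhoP F m X)
  show rhoP F m (n • X) = n • (rhoP F m X)
  rcases Int.units_eq_one_or n with rfl | rfl
  · simp
  · simp [Units.smul_def]

/-- the action hom of `KK` -/
noncomputable def tau : KK F →* AddMonoid.End (MV F) :=
  (rhoP F).noncommCoprod (sgnHom F) (rho_sgn_comm F)

noncomputable instance instActKK : DistribMulAction (KK F) (MV F) :=
  DistribMulAction.compHom (MV F) (tau F)

variable {F}
theorem kk_smul_def (g : SL2 F) (ε : ℤˣ) (X : MV F) :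
    ((QuotientGroup.mk g, ε) : KK F) • X = g • (ε • X) := by
  show (tau F (QuotientGroup.mk g, ε)) X = _
  rw [tau, MonoidHom.noncommCoprod_apply]
  show rhoP F (QuotientGroup.mk g) (sgnHom F ε X) = _
  rw [rhoP, QuotientGroup.lift_mk]
  rfl

theorem kk_smul_def' (g : SL2 F) (ε : ℤˣ) (X : MV F) :
    (g • (ε • X) : MV F) = ((ε : ℤ) : F) • ((g : Matrix (Fin 2) (Fin 2) F) * X * ((frobSL F g)⁻¹ : SL2 F)) := by
  rw [sl_smul_def, Units.smul_def, ← Int.cast_smul_eq_zsmul F, Matrix.mul_smul, Matrix.smul_mul]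

omit [CharP F 3] in
theorem mk_pow_eq_one_of_scalar (g : SL2 F) (n : ℕ) (r : F) (hr : r ^ 2 = 1)
    (h : (g : Matrix (Fin 2) (Fin 2) F) ^ n = Matrix.scalar (Fin 2) r) :
    (QuotientGroup.mk g : PSL2 F) ^ n = 1 := by
  rw [← QuotientGroup.mk_pow, QuotientGroup.eq_one_iff]
  apply Helper41.sl2_mem_center_of_eq_scalar _ r hr
  rw [Matrix.SpecialLinearGroup.coe_pow, h]

theorem fixed_point (hsq : ¬ IsSquare (-1 : F)) (k : KK F) (X : MV F) (hX : X ≠ 0)
    (hk : k • X = X) : k ^ 2 = 1 ∨ k ^ 3 = 1 := by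
  obtain ⟨kg, ε⟩ := k
  obtain ⟨g, rfl⟩ := QuotientGroup.mk_surjective kg
  rw [kk_smul_def, kk_smul_def'] at hk
  set A : Matrix (Fin 2) (Fin 2) F := (g : Matrix (Fin 2) (Fin 2) F) with hAdef
  set B : Matrix (Fin 2) (Fin 2) F := ((frobSL F g : SL2 F) : Matrix (Fin 2) (Fin 2) F) with hBdef
  set t : F := Matrix.trace A with htdef
  have hA : A * A = t • A - 1 := Helper41.sl2_cayley_hamilton g
  have hB : B * B = (t ^ 3) • B - 1 := by
    have := Helper41.sl2_cayley_hamilton (frobSL F g)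
    rw [trace_frobSL] at this
    exact this
  have hA' : A.adjugate * A = 1 := by
    rw [Matrix.adjugate_mul, hAdef, g.det_coe, one_smul]
  have hBinv : (((frobSL F g)⁻¹ : SL2 F) : Matrix (Fin 2) (Fin 2) F) * B = 1 := by
    rw [Matrix.SpecialLinearGroup.coe_inv, Matrix.adjugate_mul, (frobSL F g).det_coe, one_smul]
  have hc0 : (((ε : ℤ) : F)) ^ 2 = 1 := by
    rcases Int.units_eq_one_or ε with rfl | rfl <;> simp
  set c : F := ((ε : ℤ) : F) with hcdef
  have hc : c ^ 2 = 1 := hc0
  have hAX : A * X = c • (X * B) := by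
    have h1 : c • ((c • (A * X * (((frobSL F g)⁻¹ : SL2 F) : Matrix (Fin 2) (Fin 2) F))) * B) =
        c • (X * B) := by rw [hk]
    rw [Matrix.smul_mul, Matrix.mul_assoc, hBinv, Matrix.mul_one, smul_smul, ← sq, hc, one_smul] at h1
    exact h1
  have htr : t = c * t ^ 3 := trace_of_intertwine hc hA hB hA' hAX hX
  have hε2 : ε ^ 2 = 1 := Int.units_sq ε
  by_cases ht0 : t = 0
  · left
    rw [Prod.pow_mk, hε2]
    refine Prod.ext ?_ rfl
    apply mk_pow_eq_one_of_scalar g 2 (-1) (by ring)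
    rw [sq, ← hAdef, hA, ht0, zero_smul, zero_sub]
    ext i j
    fin_cases i <;> fin_cases j <;> simp [Matrix.scalar_apply]
  · have ht2 : c * t ^ 2 = 1 := by
      have h1 : t * 1 = t * (c * t ^ 2) := by
        rw [mul_one]
        conv_lhs => rw [htr]
        ring
      exact (mul_left_cancel₀ ht0 h1).symm
    rcases Int.units_eq_one_or ε with rfl | rfl
    · right
      have ht21 : t ^ 2 = 1 := by simpa [hcdef] using ht2
      rw [Prod.pow_mk, one_pow]
      refine Prod.ext ?_ rfl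
      apply mk_pow_eq_one_of_scalar g 3 (-t) (by rw [neg_sq, ht21])
      have h3 : A ^ 3 = A * A * A := by rw [pow_succ, sq]
      rw [← hAdef, h3, hA, Matrix.sub_mul, Matrix.smul_mul, hA, Matrix.one_mul, smul_sub, smul_smul,
        ← sq, ht21, one_smul]
      ext i j
      fin_cases i <;> fin_cases j <;> simp [Matrix.scalar_apply]
    · exfalso
      apply hsq
      refine ⟨t, ?_⟩
      have : -(t ^ 2) = 1 := by simpa [hcdef] using ht2
      rw [← sq]
      linear_combination this

end Cfsg.Agent.Helper39.TruncRee
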