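import Cfsg.Agent.Helper39.TruncRee.Act
import Cfsg.Agent.Helper39.SpecA10.Aff

/-!
# The group `Mat₂(F) ⋊ (PSL₂(F) × {±1})` and its maximal element orders (helper39, for S2515)
-/

set_option autoImplicit false

namespace Cfsg.Agent.Helper39.TruncRee

open Matrix SpecA10

/-! ### generalities on `Aff` -/

section AffGen

variable {K V : Type*} [Group K] [AddCommGroup V] [DistribMulAction K V]

/-- the complement `K → V ⋊ K` -/
def affInr : K →* Aff K V where
  toFun k := ⟨0, k⟩
  map_one' := rfl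
  map_mul' a b := by
    apply Aff.ext'
    · simp
    · simp

theorem affInr_injective : Function.Injective (affInr : K →* Aff K V) := by
  intro a b h
  exact congrArg Aff.g h

theorem orderOf_affInr (k : K) : orderOf (affInr k : Aff K V) = orderOf k :=
  orderOf_injective affInr affInr_injective k

/-- the norm is a fixed point -/
theorem smul_nrm (g : K) (v : V) : g • Aff.nrm g v = Aff.nrm g v := by
  unfold Aff.nrm
  rw [Finset.smul_sum]
  have h1 : ∀ i, g • (g ^ i • v) = g ^ (i + 1) • v := by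
    intro i
    rw [smul_smul, ← pow_succ']
  simp_rw [h1]
  have h2 := Finset.sum_range_succ' (fun i => g ^ i • v) (orderOf g)
  have h3 := Finset.sum_range_succ (fun i => g ^ i • v) (orderOf g)
  rw [h3] at h2
  simp only [pow_orderOf_eq_one, pow_zero] at h2
  exact (add_right_cancel h2).symm

end AffGen

variable {F : Type} [Field F] [CharP F 3]

/-- the group -/
abbrev HH (F : Type) [Field F] [CharP F 3] : Type := Aff (KK F) (MV F)

theorem three_nsmul_mv (X : MV F) : (3 : ℕ) • X = 0 := by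
  have h3 : ((3 : ℕ) : F) = 0 := CharP.cast_eq_zero F 3
  ext i j
  simp only [Matrix.smul_apply, Matrix.zero_apply, nsmul_eq_mul]
  rw [h3, zero_mul]

theorem addOrderOf_mv (X : MV F) : addOrderOf X = 1 ∨ addOrderOf X = 3 := by
  have h : addOrderOf X ∣ 3 := addOrderOf_dvd_of_nsmul_eq_zero (three_nsmul_mv X)
  exact (Nat.dvd_prime Nat.prime_three).mp h

section Orders

variable [Fintype F]

instance : Finite (KK F) := by
  classical
  infer_instance

theorem kk_order_dvd {q : ℕ} (hq : Fintype.card F = q) (hq8 : q % 8 = 3) (k : KK F) :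
    orderOf k ∣ 6 ∨ orderOf k ∣ q - 1 ∨ orderOf k ∣ (q + 1) / 2 := by
  haveI : Fact (Nat.Prime 3) := ⟨Nat.prime_three⟩
  have hgcd : Nat.gcd 2 (q - 1) = 2 := Nat.gcd_eq_left (by omega)
  have h2 : orderOf k.2 ∣ 2 := orderOf_dvd_of_pow_eq_one (Int.units_sq k.2)
  rw [Prod.orderOf]
  have h := Helper41.psl2_orderOf_dvd 3 k.1
  rw [hq, hgcd] at h
  rcases h with h | h | h
  · left
    exact Nat.lcm_dvd (dvd_trans h (by norm_num)) (dvd_trans h2 (by norm_num))
  · right; left
    refine Nat.lcm_dvd (dvd_trans h (Nat.div_dvd_of_dvd (by omega))) (dvd_trans h2 (by omega))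
  · right; right
    refine Nat.lcm_dvd h (dvd_trans h2 (by omega))

/-- every element order of `HH` divides one of the four numbers -/
theorem hh_order_dvd {q : ℕ} (hq : Fintype.card F = q) (hq8 : q % 8 = 3) (x : HH F) :
    orderOf x ∣ 6 ∨ orderOf x ∣ 9 ∨ orderOf x ∣ q - 1 ∨ orderOf x ∣ (q + 1) / 2 := by
  have hsq : ¬ IsSquare (-1 : F) := by
    rw [FiniteField.isSquare_neg_one_iff, hq]
    omega
  have hpos : 0 < orderOf x.g := orderOf_pos x.g
  rw [Aff.orderOf_eq x hpos]
  rcases addOrderOf_mv (Aff.nrm x.g x.v) with h1 | h3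
  · rw [h1, mul_one]
    rcases kk_order_dvd hq hq8 x.g with h | h | h
    · exact Or.inl h
    · exact Or.inr (Or.inr (Or.inl h))
    · exact Or.inr (Or.inr (Or.inr h))
  · rw [h3]
    have hne : Aff.nrm x.g x.v ≠ 0 := by
      intro h0
      rw [h0, addOrderOf_zero] at h3
      omega
    rcases fixed_point hsq x.g _ hne (smul_nrm x.g x.v) with h | h
    · left
      have := orderOf_dvd_of_pow_eq_one h
      exact Nat.mul_dvd_mul this (dvd_refl 3)
    · right; left
      have := orderOf_dvd_of_pow_eq_one h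
      exact Nat.mul_dvd_mul this (dvd_refl 3)

end Orders

section Exist

theorem orderOf_neg_one_units : orderOf (-1 : ℤˣ) = 2 := by
  apply orderOf_eq_prime
  · simp
  · decide

variable [Fintype F]

omit [Fintype F] in
theorem exists_order_six : ∃ x : HH F, orderOf x = 6 := by
  have : Fact (Nat.Prime 3) := ⟨Nat.prime_three⟩
  obtain ⟨g, hg⟩ := Helper41.psl2_exists_orderOf_eq_char (F := F) 3
  refine ⟨affInr (g, -1), ?_⟩
  rw [orderOf_affInr, Prod.orderOf, hg, orderOf_neg_one_units]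
  rfl

theorem exists_order_split {q : ℕ} (hq : Fintype.card F = q) (hq8 : q % 8 = 3) :
    ∃ x : HH F, orderOf x = q - 1 := by
  have hgcd : Nat.gcd 2 (q - 1) = 2 := Nat.gcd_eq_left (by omega)
  obtain ⟨g, hg⟩ := Helper41.psl2_exists_orderOf_eq_split (F := F)
  rw [hq, hgcd] at hg
  refine ⟨affInr (g, -1), ?_⟩
  rw [orderOf_affInr, Prod.orderOf, hg, orderOf_neg_one_units]
  have hcop : Nat.Coprime ((q - 1) / 2) 2 := by
    apply Nat.Coprime.symm
    rw [Nat.Prime.coprime_iff_not_dvd Nat.prime_two]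
    omega
  rw [Nat.Coprime.lcm_eq_mul hcop]
  omega

theorem exists_order_nonsplit {q : ℕ} (hq : Fintype.card F = q) (hq8 : q % 8 = 3) :
    ∃ x : HH F, orderOf x = (q + 1) / 2 := by
  have : Fact (Nat.Prime 3) := ⟨Nat.prime_three⟩
  have hgcd : Nat.gcd 2 (q - 1) = 2 := Nat.gcd_eq_left (by omega)
  obtain ⟨g, hg⟩ := Helper41.psl2_exists_orderOf_eq_nonsplit (F := F) 3
  rw [hq, hgcd] at hg
  refine ⟨affInr (g, 1), ?_⟩
  rw [orderOf_affInr, Prod.orderOf, hg, orderOf_one, Nat.lcm_one_right]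

end Exist

/-- the unipotent element -/
noncomputable def uK : KK F := (QuotientGroup.mk (Helper41.sl2Unip 1), 1)

omit [CharP F 3] in
theorem uK_pow (n : ℕ) : (uK : KK F) ^ n = (QuotientGroup.mk (Helper41.sl2Unip (n : F)), 1) := by
  rw [uK, Prod.pow_mk, one_pow, ← QuotientGroup.mk_pow, Helper41.sl2Unip_pow, mul_one]

theorem uK_pow_three : (uK : KK F) ^ 3 = 1 := by
  rw [uK_pow]
  have h3 : ((3 : ℕ) : F) = 0 := CharP.cast_eq_zero F 3
  rw [h3, Helper41.sl2Unip_zero]
  rfl

/-- the vector `E₂₁` -/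
def X0 : MV F := !![0, 0; 1, 0]

theorem uK_pow_smul (n : ℕ) :
    ((uK : KK F) ^ n) • (X0 : MV F) = !![(n : F), -(n : F) ^ 4; 1, -(n : F) ^ 3] := by
  rw [uK_pow, kk_smul_def, one_smul, sl_smul_def, coe_frobSL_inv]
  ext i j
  fin_cases i <;> fin_cases j <;>
    simp [Helper41.sl2Unip, X0, Matrix.mul_apply, Fin.sum_univ_two, Matrix.adjugate_fin_two] <;> ring

theorem exists_order_nine : ∃ x : HH F, orderOf x = 9 := by
  have : Fact (Nat.Prime 3) := ⟨Nat.prime_three⟩
  have h3 : (3 : F) = 0 := by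
    have := CharP.cast_eq_zero F 3
    exact_mod_cast this
  refine ⟨⟨X0, uK⟩, ?_⟩
  have hx3 : (⟨X0, uK⟩ : HH F) ^ 3 = ⟨!![0, 1; 0, 0], 1⟩ := by
    apply Aff.ext'
    · rw [Aff.pow_v]
      simp only [Finset.sum_range_succ, Finset.sum_range_zero, zero_add]
      rw [uK_pow_smul, uK_pow_smul, uK_pow_smul]
      ext i j
      fin_cases i <;> fin_cases j <;> simp
      · linear_combination h3
      · linear_combination (-6 : F) * h3
      · linear_combination h3
      · linear_combination (-3 : F) * h3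
    · rw [Aff.pow_g]
      exact uK_pow_three
  have h9 : (9 : ℕ) = 3 ^ (1 + 1) := by norm_num
  rw [h9]
  apply orderOf_eq_prime_pow
  · rw [pow_one, hx3]
    intro h
    have h1 := congrArg Aff.v h
    have h2 := congr_fun (congr_fun h1 0) 1
    simp at h2
  · rw [pow_succ, pow_one, pow_mul, hx3, Aff.mk_one_pow, three_nsmul_mv]
    rfl

theorem exists_normal_three : ∃ P : Subgroup (HH F), P.Normal ∧ P ≠ ⊥ ∧ IsPGroup 3 ↥P := by
  refine ⟨(Aff.proj : HH F →* KK F).ker, inferInstance, ?_, ?_⟩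
  · intro h
    have hm : (⟨X0, 1⟩ : HH F) ∈ (Aff.proj : HH F →* KK F).ker := by
      rw [MonoidHom.mem_ker]; rfl
    rw [h, Subgroup.mem_bot] at hm
    have h1 := congrArg Aff.v hm
    have h2 := congr_fun (congr_fun h1 1) 0
    simp [X0] at h2
  · rintro ⟨x, hx⟩
    refine ⟨1, ?_⟩
    rw [MonoidHom.mem_ker] at hx
    apply Subtype.ext
    rw [Subgroup.coe_pow, pow_one]
    have hx' : x = ⟨x.v, 1⟩ := Aff.ext' rfl hx
    show x ^ 3 = 1
    rw [hx', Aff.mk_one_pow, three_nsmul_mv]
    rfl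

/-- maximal elements of a set of naturals under divisibility -/
theorem maxset_eq (ω S : Set ℕ) (h1 : S ⊆ ω) (h2 : ∀ n ∈ ω, ∃ s ∈ S, n ∣ s)
    (h3 : ∀ s ∈ S, ∀ s' ∈ S, s ∣ s' → s' = s) :
    {n : ℕ | n ∈ ω ∧ ∀ m ∈ ω, n ∣ m → m = n} = S := by
  ext n
  constructor
  · rintro ⟨hn, hmax⟩
    obtain ⟨s, hs, hns⟩ := h2 n hn
    have := hmax s (h1 hs) hns
    rw [← this]; exact hs
  · intro hn
    refine ⟨h1 hn, ?_⟩
    intro m hm hnm
    obtain ⟨s', hs', hms'⟩ := h2 m hm
    have := h3 n hn s' hs' (dvd_trans hnm hms')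
    rw [this] at hms'
    exact Nat.dvd_antisymm hms' hnm

theorem incomparable {q : ℕ} (hq8 : q % 8 = 3) (hq27 : 27 ≤ q) (hq3 : q % 3 = 0) :
    ∀ s ∈ ({6, 9, q - 1, (q + 1) / 2} : Set ℕ), ∀ s' ∈ ({6, 9, q - 1, (q + 1) / 2} : Set ℕ),
      s ∣ s' → s' = s := by
  have hd : ¬ ((q + 1) / 2 ∣ q - 1) := by
    intro h
    have h2 : (q + 1) / 2 ∣ q + 1 := Dvd.intro_left 2 (by omega)
    have h3 : (q + 1) / 2 ∣ (q + 1) - (q - 1) := Nat.dvd_sub h2 h
    have h4 : (q + 1) - (q - 1) = 2 := by omega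
    rw [h4] at h3
    have := Nat.le_of_dvd (by norm_num) h3
    omega
  intro s hs s' hs' hdvd
  simp only [Set.mem_insert_iff, Set.mem_singleton_iff] at hs hs'
  rcases hs with rfl | rfl | rfl | rfl <;> rcases hs' with rfl | rfl | rfl | rfl
  all_goals first
    | rfl
    | (exfalso; omega)
    | (exfalso; exact hd hdvd)
    | (exfalso; have := Nat.le_of_dvd (by omega) hdvd; omega)


/-- the maximal element orders of `HH F` -/
theorem main_F [Fintype F] {q : ℕ} (hq : Fintype.card F = q) (hq8 : q % 8 = 3) (hq27 : 27 ≤ q)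
    (hq3 : q % 3 = 0) :
    {n : ℕ | n ∈ Set.range (orderOf : HH F → ℕ) ∧
      ∀ m ∈ Set.range (orderOf : HH F → ℕ), n ∣ m → m = n} =
      ({6, 9, q - 1, (q + 1) / 2} : Set ℕ) := by
  apply maxset_eq
  · intro s hs
    simp only [Set.mem_insert_iff, Set.mem_singleton_iff] at hs
    rcases hs with rfl | rfl | rfl | rfl
    · exact exists_order_six
    · exact exists_order_nine
    · exact exists_order_split hq hq8
    · exact exists_order_nonsplit hq hq8
  · rintro n ⟨x, rfl⟩
    rcases hh_order_dvd hq hq8 x with h | h | h | h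
    · exact ⟨6, by simp, h⟩
    · exact ⟨9, by simp, h⟩
    · exact ⟨q - 1, by simp, h⟩
    · exact ⟨(q + 1) / 2, by simp, h⟩
  · exact incomparable hq8 hq27 hq3

instance [Finite F] : Finite (HH F) := by
  classical
  haveI : Fintype F := Fintype.ofFinite F
  haveI : Finite (MV F) := inferInstance
  exact Finite.of_injective (fun x : HH F => (x.v, x.g)) (fun x y h => by
    have h1 := congrArg Prod.fst h
    have h2 := congrArg Prod.snd h
    exact Aff.ext' h1 h2)

end Cfsg.Agent.Helper39.TruncRee
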